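import Groth.Agent.EtAlg.Glue.Flat
import Mathlib.RingTheory.RingHom.Finite
import Mathlib.RingTheory.RingHom.FiniteType
import Mathlib.RingTheory.RingHom.FinitePresentation
import Mathlib.RingTheory.RingHom.Etale
import Mathlib.RingTheory.RingHom.Flat
import Mathlib.RingTheory.RingHom.Unramified
import Mathlib.RingTheory.RingHom.Surjective
import Mathlib.RingTheory.Localization.BaseChange
import Mathlib.RingTheory.TensorProduct.Maps
import Mathlib.RingTheory.Kaehler.TensorProduct

/-! Glueing pairs: detection of properties of algebras. -/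

namespace Groth.Agent.EtAlg.Glue.Alg

open TensorProduct EtGlue Basic Flat

attribute [local instance] Algebra.TensorProduct.rightAlgebra

universe u

section Detect

variable {A A' : Type u} [CommRing A] [CommRing A'] [Algebra A A'] {a : A}
  {M : Type u} [AddCommGroup M] [Module A M]

theorem exists_pow_smul_eq_zero {m : M} (hm : (1 : Localization.Away a) ⊗ₜ[A] m = 0) : ∃ n : ℕ, a ^ n • m = 0 := by
  have hb : IsBaseChange (Localization.Away a) (LocalizedModule.mkLinearMap (Submonoid.powers a) M) :=
    IsLocalizedModule.isBaseChange (Submonoid.powers a) _ _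
  refine loc_eq_zero_iff.mp ?_
  rw [← one_smul (Localization.Away a) (LocalizedModule.mkLinearMap (Submonoid.powers a) M m), ← hb.equiv_tmul, hm,
    map_zero]

theorem flat_loc (h : Module.Flat (Localization.Away a) (Localization.Away a ⊗[A] M)) :
    Module.Flat (Localization.Away a) (LocalizedModule (Submonoid.powers a) M) := by
  have hb : IsBaseChange (Localization.Away a) (LocalizedModule.mkLinearMap (Submonoid.powers a) M) :=
    IsLocalizedModule.isBaseChange (Submonoid.powers a) _ _
  exact Module.Flat.of_linearEquiv hb.equiv.symm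

theorem eq_zero_of_pair' (h : IsGlueingPair A A' a) (h1 : ∀ x : A' ⊗[A] M, x = 0)
    (h2 : ∀ x : Localization.Away a ⊗[A] M, x = 0) (m : M) : m = 0 :=
  eq_zero_of_pair h h1 (fun _ => exists_pow_smul_eq_zero (h2 _)) m

theorem surjective_of_pair' (h : IsGlueingPair A A' a) {N : Type u} [AddCommGroup N] [Module A N] (g : N →ₗ[A] M)
    (h1 : Function.Surjective (g.lTensor A')) (h2 : Function.Surjective (g.lTensor (Localization.Away a))) :
    Function.Surjective g := by
  refine surjective_of_pair h g h1 fun m => ?_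
  have h0 : (LinearMap.range g).mkQ.lTensor (Localization.Away a) ((1 : Localization.Away a) ⊗ₜ m) = 0 := by
    obtain ⟨z, hz⟩ := h2 ((1 : Localization.Away a) ⊗ₜ m)
    rw [← hz, ← LinearMap.lTensor_comp_apply, show (LinearMap.range g).mkQ ∘ₗ g = 0 from LinearMap.ext fun n =>
      (Submodule.Quotient.mk_eq_zero _).mpr ⟨n, rfl⟩, LinearMap.lTensor_zero, LinearMap.zero_apply]
  rw [LinearMap.lTensor_tmul] at h0
  obtain ⟨n, hn⟩ := exists_pow_smul_eq_zero h0
  exact ⟨n, (Submodule.Quotient.mk_eq_zero _).mp ((Submodule.Quotient.mk_smul _ _ _).trans hn)⟩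

theorem flat_of_pair' (h : IsGlueingPair A A' a) (h1 : Module.Flat A' (A' ⊗[A] M))
    (h2 : Module.Flat (Localization.Away a) (Localization.Away a ⊗[A] M)) : Module.Flat A M :=
  flat_of_pair h (flat_loc h2)

omit [Algebra A A'] in
theorem exists_fg_lTensor_surjective (S : Type u) [CommRing S] [Algebra A S] [Module.Finite S (S ⊗[A] M)] :
    ∃ s : Finset M, Function.Surjective ((Submodule.span A (s : Set M)).subtype.lTensor S) := by
  classical
  have hrep : ∀ x : S ⊗[A] M, ∃ t : Finset M, x ∈ LinearMap.range ((Submodule.span A (t : Set M)).subtype.baseChange S) := fun x => by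
    induction x using TensorProduct.induction_on with
    | zero => exact ⟨∅, zero_mem _⟩
    | tmul r m => exact ⟨{m}, r ⊗ₜ ⟨m, Submodule.subset_span (by simp)⟩, rfl⟩
    | add x y hx hy =>
      obtain ⟨⟨s, x', rfl⟩, t, y', rfl⟩ := hx, hy
      refine ⟨s ∪ t, (Submodule.inclusion (Submodule.span_mono (Finset.coe_subset.mpr Finset.subset_union_left))).baseChange S x' +
        (Submodule.inclusion (Submodule.span_mono (Finset.coe_subset.mpr Finset.subset_union_right))).baseChange S y', ?_⟩
      rw [map_add, ← LinearMap.comp_apply, ← LinearMap.baseChange_comp, ← LinearMap.comp_apply, ← LinearMap.baseChange_comp]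
      rfl
  choose t ht using hrep
  obtain ⟨G, hG⟩ := (Module.Finite.fg_top : (⊤ : Submodule S (S ⊗[A] M)).FG)
  refine ⟨G.biUnion t, ?_⟩
  have hle : (⊤ : Submodule S (S ⊗[A] M)) ≤
      LinearMap.range ((Submodule.span A (G.biUnion t : Set M)).subtype.baseChange S) := by
    rw [← hG, Submodule.span_le]
    intro x hx
    obtain ⟨y, hy⟩ := ht x
    refine ⟨(Submodule.inclusion (Submodule.span_mono (Finset.coe_subset.mpr (Finset.subset_biUnion_of_mem t hx)))).baseChange S y, ?_⟩
    rw [← LinearMap.comp_apply, ← LinearMap.baseChange_comp]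
    exact hy
  exact fun x => hle trivial

theorem finite_of_pair (h : IsGlueingPair A A' a) [Module.Finite A' (A' ⊗[A] M)]
    [Module.Finite (Localization.Away a) (Localization.Away a ⊗[A] M)] : Module.Finite A M := by
  classical
  obtain ⟨s, hs⟩ := exists_fg_lTensor_surjective (A := A) (M := M) A'
  obtain ⟨t, ht⟩ := exists_fg_lTensor_surjective (A := A) (M := M) (Localization.Away a)
  have key : ∀ (S : Type u) [CommRing S] [Algebra A S] (v : Finset M) (hv : v ⊆ s ∪ t),
      Function.Surjective ((Submodule.span A (v : Set M)).subtype.lTensor S) →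
        Function.Surjective ((Submodule.span A ((s ∪ t : Finset M) : Set M)).subtype.lTensor S) := fun S _ _ v hv hsv x => by
    obtain ⟨y, rfl⟩ := hsv x
    refine ⟨(Submodule.inclusion (Submodule.span_mono (Finset.coe_subset.mpr hv))).lTensor S y, ?_⟩
    rw [← LinearMap.lTensor_comp_apply]
    rfl
  have hsurj := surjective_of_pair' h _ (key A' s Finset.subset_union_left hs)
    (key (Localization.Away a) t Finset.subset_union_right ht)
  exact ⟨⟨s ∪ t, eq_top_iff.mpr fun m _ => by obtain ⟨⟨y, hy⟩, rfl⟩ := hsurj m; exact hy⟩⟩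

variable {B : Type u} [CommRing B] [Algebra A B]

omit [Algebra A A'] in
theorem lTensor_linearMap_eq (S : Type u) [CommRing S] [Algebra A S] (z : S ⊗[A] A) :
    (Algebra.linearMap A B).lTensor S z = algebraMap S (S ⊗[A] B) (TensorProduct.rid A S z) := by
  induction z using TensorProduct.induction_on with
  | zero => simp
  | add x y hx hy => simp only [map_add, hx, hy]
  | tmul r c =>
    rw [LinearMap.lTensor_tmul, TensorProduct.rid_tmul, Algebra.linearMap_apply, Algebra.algebraMap_eq_smul_one, tmul_smul,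
      TensorProduct.smul_tmul']
    rfl

theorem surjective_alg (h : IsGlueingPair A A' a) (h1 : Function.Surjective (algebraMap A' (A' ⊗[A] B)))
    (h2 : Function.Surjective (algebraMap (Localization.Away a) (Localization.Away a ⊗[A] B))) :
    Function.Surjective (algebraMap A B) := by
  have key : ∀ (S : Type u) [CommRing S] [Algebra A S], Function.Surjective (algebraMap S (S ⊗[A] B)) →
      Function.Surjective ((Algebra.linearMap A B).lTensor S) := fun S _ _ hS x => by
    obtain ⟨r, rfl⟩ := hS x
    exact ⟨(TensorProduct.rid A S).symm r, by rw [lTensor_linearMap_eq, LinearEquiv.apply_symm_apply]⟩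
  exact surjective_of_pair' h (Algebra.linearMap A B) (key _ h1) (key _ h2)

omit [Algebra A A'] in
theorem exists_fg_subalgebra (S : Type u) [CommRing S] [Algebra A S] [Algebra.FiniteType S (S ⊗[A] B)] :
    ∃ s : Finset B, ∀ C : Subalgebra A B, (s : Set B) ⊆ C → Function.Surjective (C.toSubmodule.subtype.lTensor S) := by
  classical
  obtain ⟨G, hG⟩ := (Algebra.FiniteType.out : (⊤ : Subalgebra S (S ⊗[A] B)).FG)
  have hrep : ∀ x : S ⊗[A] B, ∃ t : Finset B, ∀ C : Subalgebra A B, (t : Set B) ⊆ C →
      x ∈ (Algebra.TensorProduct.map (AlgHom.id S S) C.val).range := fun x => by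
    induction x using TensorProduct.induction_on with
    | zero => exact ⟨∅, fun C _ => zero_mem _⟩
    | tmul r m => exact ⟨{m}, fun C hC => ⟨r ⊗ₜ ⟨m, hC (by simp)⟩, rfl⟩⟩
    | add x y hx hy =>
      obtain ⟨⟨s, hs⟩, t, ht⟩ := hx, hy
      exact ⟨s ∪ t, fun C hC => add_mem (hs C fun z hz => hC (by simp [Finset.mem_coe.mp hz]))
        (ht C fun z hz => hC (by simp [Finset.mem_coe.mp hz]))⟩
  choose t ht using hrep
  refine ⟨G.biUnion t, fun C hC x => ?_⟩
  have hle : Algebra.adjoin S (G : Set (S ⊗[A] B)) ≤ (Algebra.TensorProduct.map (AlgHom.id S S) C.val).range :=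
    Algebra.adjoin_le fun g hg => ht g C fun z hz => hC (Finset.coe_subset.mpr (Finset.subset_biUnion_of_mem t hg) hz)
  rw [hG] at hle
  obtain ⟨z, hz⟩ := hle (Algebra.mem_top (x := x))
  exact ⟨z, hz⟩

theorem finiteType_alg (h : IsGlueingPair A A' a) [Algebra.FiniteType A' (A' ⊗[A] B)]
    [Algebra.FiniteType (Localization.Away a) (Localization.Away a ⊗[A] B)] : Algebra.FiniteType A B := by
  classical
  obtain ⟨s, hs⟩ := exists_fg_subalgebra (A := A) (B := B) A'
  obtain ⟨t, ht⟩ := exists_fg_subalgebra (A := A) (B := B) (Localization.Away a)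
  let C := Algebra.adjoin A ((s ∪ t : Finset B) : Set B)
  have hsub : ((s ∪ t : Finset B) : Set B) ⊆ C := Algebra.subset_adjoin
  have hsurj := surjective_of_pair' h _ (hs C fun z hz => hsub (by simp [Finset.mem_coe.mp hz]))
    (ht C fun z hz => hsub (by simp [Finset.mem_coe.mp hz]))
  refine ⟨⟨s ∪ t, eq_top_iff.mpr fun m _ => ?_⟩⟩
  obtain ⟨⟨y, hy⟩, rfl⟩ := hsurj m
  exact hy

omit [Algebra A A'] in
theorem exists_ker_finset {P : Type u} [CommRing P] [Algebra A P] [Algebra.FinitePresentation A P] [Module.Flat A P]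
    [Module.Flat A B] (π : P →ₐ[A] B) (hπ : Function.Surjective π) (J : Ideal P) (hJ : J = RingHom.ker π.toRingHom)
    (S : Type u) [CommRing S] [Algebra A S] [Algebra.FinitePresentation S (S ⊗[A] B)] :
    ∃ s : Finset P, (∀ p ∈ s, p ∈ J) ∧ ∀ J₀ : Ideal P, (s : Set P) ⊆ J₀ → ∀ hle : J₀ ≤ J,
      Function.Surjective ((Submodule.inclusion
        (show J₀.restrictScalars A ≤ J.restrictScalars A from hle)).lTensor S) := by
  classical
  subst hJ
  set J := RingHom.ker π.toRingHom with hJdef
  have hiπ : Function.Exact (J.restrictScalars A).subtype π.toLinearMap := fun y =>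
    ⟨fun hy => ⟨⟨y, hy⟩, rfl⟩, fun ⟨z, hz⟩ => hz ▸ z.2⟩
  let πS : S ⊗[A] P →ₐ[S] S ⊗[A] B := Algebra.TensorProduct.map (AlgHom.id S S) π
  have hπS : Function.Surjective πS := fun y => by
    induction y using TensorProduct.induction_on with
    | zero => exact ⟨0, map_zero _⟩
    | add y z hy hz =>
      obtain ⟨⟨y', rfl⟩, z', rfl⟩ := hy, hz
      exact ⟨y' + z', map_add _ _ _⟩
    | tmul r b =>
      obtain ⟨q, rfl⟩ := hπ b
      exact ⟨r ⊗ₜ q, Algebra.TensorProduct.map_tmul _ _ _ _⟩
  have hker : RingHom.ker πS.toRingHom = J.map (Algebra.TensorProduct.includeRight : P →ₐ[A] S ⊗[A] P) :=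
    (congrArg RingHom.ker (show πS.toRingHom = (Algebra.TensorProduct.map (AlgHom.id A S) π).toRingHom from
      RingHom.ext fun x => by
        induction x using TensorProduct.induction_on with
        | zero => simp
        | add x y hx hy => simp only [map_add, hx, hy]
        | tmul r p => simp [πS])).trans
      (Algebra.TensorProduct.lTensor_ker π hπ)
  have hfg := Algebra.FinitePresentation.ker_fG_of_surjective πS hπS
  rw [hker] at hfg
  obtain ⟨T, hT, hspan⟩ := (Submodule.fg_span_iff_fg_span_finset_subset _).mp hfg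
  choose g hg hgT using fun t : T => hT t.2
  refine ⟨Finset.univ.image g, fun p hp => ?_, fun J₀ hsub hle => ?_⟩
  · obtain ⟨t, -, rfl⟩ := Finset.mem_image.mp hp
    exact hg t
  have hinj : Function.Injective ((J.restrictScalars A).subtype.lTensor S) := by
    have : Module.Flat A (A ⊗[A] B) := Module.Flat.of_linearEquiv (TensorProduct.lid A B)
    exact (LinearMap.lTensor_inj_iff_rTensor_inj S _).mpr
      (rTensor_injective_of_algebra (K := ↥(J.restrictScalars A)) (F := P) (Q := S) A hiπ hπ
        (Module.Flat.rTensor_preserves_injective_linearMap _ Subtype.val_injective))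
  intro z
  have hz : (J.restrictScalars A).subtype.lTensor S z ∈
      J₀.map (Algebra.TensorProduct.includeRight : P →ₐ[A] S ⊗[A] P) := by
    have hz' : (J.restrictScalars A).subtype.lTensor S z ∈
        (J.map (Algebra.TensorProduct.includeRight : P →ₐ[A] S ⊗[A] P)).restrictScalars A := by
      rw [Ideal.map_includeRight_eq]
      exact ⟨z, rfl⟩
    refine (?_ : J.map (Algebra.TensorProduct.includeRight : P →ₐ[A] S ⊗[A] P) ≤ _) hz'
    refine (le_of_eq hspan).trans (Ideal.span_le.mpr fun x hx => ?_)
    exact Eq.subst (motive := fun y => y ∈ J₀.map (Algebra.TensorProduct.includeRight : P →ₐ[A] S ⊗[A] P)) (hgT ⟨x, hx⟩)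
      (Ideal.mem_map_of_mem _ (hsub (Finset.mem_image_of_mem g (Finset.mem_univ _))))
  have hz2 : (J.restrictScalars A).subtype.lTensor S z ∈
      (J₀.map (Algebra.TensorProduct.includeRight : P →ₐ[A] S ⊗[A] P)).restrictScalars A := hz
  rw [Ideal.map_includeRight_eq] at hz2
  obtain ⟨w, hw⟩ := hz2
  exact ⟨w, hinj (by rw [← LinearMap.lTensor_comp_apply]; exact hw)⟩

theorem finitePresentation_alg (h : IsGlueingPair A A' a) [Module.Flat A B]
    [Algebra.FinitePresentation A' (A' ⊗[A] B)]
    [Algebra.FinitePresentation (Localization.Away a) (Localization.Away a ⊗[A] B)] :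
    Algebra.FinitePresentation A B := by
  classical
  have := finiteType_alg (B := B) h
  obtain ⟨k, π, hπ⟩ := Algebra.FiniteType.iff_quotient_mvPolynomial''.mp (inferInstance : Algebra.FiniteType A B)
  let P := MvPolynomial (Fin k) A
  let J : Ideal P := RingHom.ker π.toRingHom
  have key := fun (S : Type u) [CommRing S] [Algebra A S] [Algebra.FinitePresentation S (S ⊗[A] B)] =>
    exists_ker_finset π hπ J rfl S
  obtain ⟨s, hs, hs'⟩ := key A'
  obtain ⟨t, ht, ht'⟩ := key (Localization.Away a)
  let J₀ : Ideal P := Ideal.span ((s ∪ t : Finset P) : Set P)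
  have hle : J₀ ≤ J := Ideal.span_le.mpr fun p hp =>
    (Finset.mem_union.mp (Finset.mem_coe.mp hp)).elim (hs p) (ht p)
  have hsurj := surjective_of_pair' h _
    (hs' J₀ (fun p hp => Ideal.subset_span (by simp [Finset.mem_coe.mp hp])) hle)
    (ht' J₀ (fun p hp => Ideal.subset_span (by simp [Finset.mem_coe.mp hp])) hle)
  have hJ : J = J₀ := le_antisymm (fun p hp => by
    obtain ⟨⟨q, hq⟩, hqp⟩ := hsurj ⟨p, hp⟩
    have e : q = p := congrArg Subtype.val hqp
    exact e ▸ hq) hle
  exact Algebra.FinitePresentation.of_surjective hπ (show J.FG from hJ ▸ ⟨s ∪ t, rfl⟩)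

theorem unramified_alg (h : IsGlueingPair A A' a) [Algebra.FormallyUnramified A' (A' ⊗[A] B)]
    [Algebra.FormallyUnramified (Localization.Away a) (Localization.Away a ⊗[A] B)] :
    Algebra.FormallyUnramified A B := by
  refine ⟨subsingleton_of_forall_eq 0 fun m => eq_zero_of_pair' h (fun x => ?_) (fun x => ?_) m⟩
  · have : Subsingleton (A' ⊗[A] KaehlerDifferential A B) :=
      (KaehlerDifferential.tensorKaehlerEquivBase A A' B (A' ⊗[A] B)).toEquiv.subsingleton
    exact Subsingleton.elim _ _
  · have : Subsingleton (Localization.Away a ⊗[A] KaehlerDifferential A B) :=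
      (KaehlerDifferential.tensorKaehlerEquivBase A (Localization.Away a) B
        (Localization.Away a ⊗[A] B)).toEquiv.subsingleton
    exact Subsingleton.elim _ _

end Detect

section Transfer

variable {R R' : Type u} [CommRing R] [CommRing R'] [Algebra R R'] {f : R} {A B : Type u} [CommRing A] [Algebra R A]
  [CommRing B] [Algebra R B]

theorem pair_tensor (h : IsGlueingPair R R' f) (hA : IsGlueable R R' f A) :
    IsGlueingPair A (A ⊗[R] R') (algebraMap R A f) := by
  let c : R' ⊗[R] A ≃ₗ[R] A ⊗[R] R' := TensorProduct.comm R R' A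
  have hc : ∀ x : A, algebraMap A (A ⊗[R] R') x = c (1 ⊗ₜ x) := fun x => rfl
  have hmul : ∀ (n : ℕ) (y : A ⊗[R] R'), algebraMap A (A ⊗[R] R') (algebraMap R A f ^ n) * y = f ^ n • y := fun n y => by
    rw [← map_pow, ← IsScalarTower.algebraMap_apply, ← Algebra.smul_def]
  have hsmul : ∀ (n : ℕ) (y : A), algebraMap R A f ^ n * y = f ^ n • y := fun n y => by
    rw [← map_pow, ← Algebra.smul_def]
  have hq : QuotPowBijective A (A ⊗[R] R') (algebraMap R A f) := fun n hn => by
    constructor
    · rw [injective_iff_map_eq_zero]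
      intro x hx
      obtain ⟨x, rfl⟩ := Ideal.Quotient.mk_surjective x
      rw [Ideal.quotientMap_mk, Ideal.Quotient.eq_zero_iff_mem, Ideal.map_span, Set.image_singleton,
        Ideal.mem_span_singleton'] at hx
      obtain ⟨y, hy⟩ := hx
      rw [mul_comm, hmul, hc] at hy
      obtain ⟨u, rfl⟩ := exists_smul_of_one_tmul_eq h.1 (y := c.symm y) (m := x) (n := n)
        (c.injective (by rw [map_smul, LinearEquiv.apply_symm_apply, hy]))
      rw [Ideal.Quotient.eq_zero_iff_mem, ← hsmul]
      exact Ideal.mul_mem_right _ _ (Ideal.mem_span_singleton_self _)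
    · intro z
      obtain ⟨z, rfl⟩ := Ideal.Quotient.mk_surjective z
      obtain ⟨m, y, hy⟩ := exists_tensor_decomp h.1 n (c.symm z)
      refine ⟨Ideal.Quotient.mk _ m, ?_⟩
      rw [Ideal.quotientMap_mk, Ideal.Quotient.eq, hc, ← c.apply_symm_apply z, hy, ← map_sub, sub_add_cancel_left,
        map_neg, neg_mem_iff, map_smul, ← hmul]
      exact Ideal.mul_mem_right _ _ (Ideal.mem_map_of_mem _ (Ideal.mem_span_singleton_self _))
  refine (isGlueingPair_iff hq).mpr ?_
  obtain ⟨hi, hs⟩ := (isGlueable_iff h.1).mp hA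
  refine ⟨fun x ⟨n, hn⟩ h0 => hi x ⟨n, by rw [← hsmul]; exact hn⟩ (c.injective (by rw [← hc, h0, map_zero])),
    fun x' ⟨n, hn⟩ => ?_⟩
  rw [← map_pow, hmul] at hn
  obtain ⟨m, ⟨k, hk⟩, hm⟩ := hs (c.symm x') ⟨n, by rw [← map_smul, hn, map_zero]⟩
  exact ⟨m, ⟨k, by rw [hsmul]; exact hk⟩, by rw [hc, hm, LinearEquiv.apply_symm_apply]⟩

theorem iff_of_comm {P : ∀ {X Y : Type u} [CommRing X] [CommRing Y], (X →+* Y) → Prop} (hP : RingHom.RespectsIso P)
    {X Y X' Y' : Type u} [CommRing X] [CommRing Y] [CommRing X'] [CommRing Y'] {g : X →+* Y} {g' : X' →+* Y'}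
    (e₁ : X ≃+* X') (e₂ : Y ≃+* Y') (h : e₂.toRingHom.comp g = g'.comp e₁.toRingHom) : P g ↔ P g' := by
  constructor
  · intro hg
    have h2 := hP.2 _ e₁.symm (hP.1 _ e₂ hg)
    rwa [h, RingHom.comp_assoc, show e₁.toRingHom.comp e₁.symm.toRingHom = RingHom.id X' from
      RingHom.ext e₁.apply_symm_apply, RingHom.comp_id] at h2
  · intro hg
    have h2 := hP.1 _ e₂.symm (hP.2 _ e₁ hg)
    rwa [← h, ← RingHom.comp_assoc, show e₂.symm.toRingHom.comp e₂.toRingHom = RingHom.id Y from
      RingHom.ext e₂.symm_apply_apply, RingHom.id_comp] at h2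

variable [Algebra A B] [IsScalarTower R A B]

theorem bc_iff {P : ∀ {X Y : Type u} [CommRing X] [CommRing Y], (X →+* Y) → Prop} (hP : RingHom.RespectsIso P) :
    P (algebraMap (A ⊗[R] R') ((A ⊗[R] R') ⊗[A] B)) ↔
      P (Algebra.TensorProduct.map (AlgHom.id R R') (IsScalarTower.toAlgHom R A B)).toRingHom := by
  let e₁ : A ⊗[R] R' ≃+* R' ⊗[R] A := (Algebra.TensorProduct.comm R A R').toRingEquiv
  let e₂ : (A ⊗[R] R') ⊗[A] B ≃+* R' ⊗[R] B :=
    ((Algebra.TensorProduct.comm A (A ⊗[R] R') B).toRingEquiv.trans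
      (Algebra.TensorProduct.cancelBaseChange R A A B R').toRingEquiv).trans
      (Algebra.TensorProduct.comm R B R').toRingEquiv
  refine iff_of_comm hP e₁ e₂ (RingHom.ext fun x => ?_)
  induction x using TensorProduct.induction_on with
  | zero => simp
  | add x y hx hy => simp only [map_add, hx, hy]
  | tmul x r => simp [e₁, e₂, Algebra.smul_def]

theorem away_iff {P : ∀ {X Y : Type u} [CommRing X] [CommRing Y], (X →+* Y) → Prop} (hP : RingHom.RespectsIso P) (x : A) :
    P (algebraMap (Localization.Away x) (Localization.Away x ⊗[A] B)) ↔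
      P (Localization.awayMap (algebraMap A B) x) := by
  let Bf := Localization.Away (algebraMap A B x)
  let _ : Algebra (Localization.Away x) Bf := (Localization.awayMap (algebraMap A B) x).toAlgebra
  have : IsScalarTower A (Localization.Away x) Bf := IsScalarTower.of_algebraMap_eq fun r =>
    (IsScalarTower.algebraMap_apply A B Bf r).trans
      (show Localization.awayMap (algebraMap A B) x (algebraMap A _ r) = algebraMap B Bf (algebraMap A B r) from
        IsLocalization.map_eq _ _).symm
  have : IsLocalization (Algebra.algebraMapSubmonoid B (Submonoid.powers x)) Bf := by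
    rw [Algebra.algebraMapSubmonoid_powers]; infer_instance
  have : Algebra.IsPushout A (Localization.Away x) B Bf :=
    (Algebra.isPushout_of_isLocalization (Submonoid.powers x) (Localization.Away x) B Bf).symm
  let e := (Algebra.IsPushout.equiv A (Localization.Away x) B Bf).toRingEquiv
  exact iff_of_comm hP (RingEquiv.refl _) e (RingHom.ext fun r =>
    (Algebra.IsPushout.equiv A (Localization.Away x) B Bf).commutes r)

theorem iff_of_detect {P : ∀ {X Y : Type u} [CommRing X] [CommRing Y], (X →+* Y) → Prop} (hP : RingHom.RespectsIso P)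
    (hbc : RingHom.IsStableUnderBaseChange P) (h : IsGlueingPair R R' f) (hA : IsGlueable R R' f A)
    (hdet : IsGlueingPair A (A ⊗[R] R') (algebraMap R A f) →
      P (algebraMap (A ⊗[R] R') ((A ⊗[R] R') ⊗[A] B)) →
      P (algebraMap (Localization.Away (algebraMap R A f)) (Localization.Away (algebraMap R A f) ⊗[A] B)) →
      P (algebraMap A B)) :
    P (algebraMap A B) ↔ P (Localization.awayMap (algebraMap A B) (algebraMap R A f)) ∧
      P (Algebra.TensorProduct.map (AlgHom.id R R') (IsScalarTower.toAlgHom R A B)).toRingHom := by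
  rw [← away_iff hP, ← bc_iff hP]
  exact ⟨fun hφ => ⟨hbc A B _ _ hφ, hbc A B _ _ hφ⟩,
    fun ⟨h2, h1⟩ => hdet (pair_tensor h hA) h1 h2⟩

end Transfer

end Groth.Agent.EtAlg.Glue.Alg
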