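import Groth.Prelude.Def_EtGlue
import Mathlib.RingTheory.Localization.BaseChange
import Mathlib.LinearAlgebra.TensorProduct.RightExactness
import Mathlib.LinearAlgebra.TensorProduct.Tower
import Mathlib.LinearAlgebra.TensorProduct.Quotient
import Mathlib.Tactic.LinearCombination

/-! Glueing pairs: torsion criteria, exactness. -/

namespace Groth.Agent.EtAlg.Glue.Basic

open TensorProduct EtGlue

universe u

variable {R R' : Type u} [CommRing R] [CommRing R'] [Algebra R R'] {f : R}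
  {M : Type u} [AddCommGroup M] [Module R M]

local notation "ι" => algebraMap R R'

theorem exists_decomp (hq : QuotPowBijective R R' f) (n : ℕ) (x : R') :
    ∃ (r : R) (y : R'), x = ι r + ι f ^ n * y := by
  rcases n.eq_zero_or_pos with rfl | hn
  · exact ⟨0, x, by simp⟩
  obtain ⟨r, hr⟩ := (hq n hn).2 (Ideal.Quotient.mk _ x)
  obtain ⟨r, rfl⟩ := Ideal.Quotient.mk_surjective r
  rw [Ideal.quotientMap_mk, Ideal.Quotient.eq, Ideal.map_span, Set.image_singleton,
    Ideal.mem_span_singleton'] at hr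
  obtain ⟨y, hy⟩ := hr
  refine ⟨r, -y, ?_⟩
  rw [map_pow] at hy
  linear_combination hy

theorem exists_ringHom (hq : QuotPowBijective R R' f) (n : ℕ) :
    ∃ ρ : R' →+* R ⧸ Ideal.span {f ^ n}, ∀ r, ρ (ι r) = Ideal.Quotient.mk _ r := by
  rcases n.eq_zero_or_pos with rfl | hn
  · have : Subsingleton (R ⧸ Ideal.span {f ^ 0}) := Ideal.Quotient.subsingleton_iff.mpr (by simp)
    exact ⟨{ toFun := fun _ => 0, map_one' := Subsingleton.elim _ _, map_mul' := fun _ _ => Subsingleton.elim _ _,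
             map_zero' := rfl, map_add' := fun _ _ => Subsingleton.elim _ _ }, fun r => Subsingleton.elim _ _⟩
  let e := RingEquiv.ofBijective _ (hq n hn)
  refine ⟨e.symm.toRingHom.comp (Ideal.Quotient.mk _), fun r => ?_⟩
  show e.symm (Ideal.Quotient.mk _ (ι r)) = _
  rw [RingEquiv.symm_apply_eq]
  rfl

theorem exists_mul_of_eq (hq : QuotPowBijective R R' f) {n : ℕ} {r : R} {y : R'} (h : ι r = ι f ^ n * y) :
    ∃ b, r = f ^ n * b := by
  obtain ⟨ρ, hρ⟩ := exists_ringHom hq n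
  have h0 : Ideal.Quotient.mk (Ideal.span {f ^ n}) r = 0 := by
    rw [← hρ, h, map_mul, ← map_pow, hρ, Ideal.Quotient.eq_zero_iff_mem.mpr (Ideal.mem_span_singleton_self _), zero_mul]
  rw [Ideal.Quotient.eq_zero_iff_mem, Ideal.mem_span_singleton'] at h0
  obtain ⟨b, hb⟩ := h0
  exact ⟨b, by rw [← hb, mul_comm]⟩

theorem exists_tensor_decomp (hq : QuotPowBijective R R' f) (n : ℕ) (x : R' ⊗[R] M) :
    ∃ (m : M) (y : R' ⊗[R] M), x = 1 ⊗ₜ m + f ^ n • y := by
  induction x using TensorProduct.induction_on with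
  | zero => exact ⟨0, 0, by simp⟩
  | add a b ha hb =>
    obtain ⟨⟨m₁, y₁, h₁⟩, m₂, y₂, h₂⟩ := ha, hb
    exact ⟨m₁ + m₂, y₁ + y₂, by rw [h₁, h₂, tmul_add, smul_add]; abel⟩
  | tmul r m =>
    obtain ⟨s, y, hy⟩ := exists_decomp hq n r
    refine ⟨s • m, y ⊗ₜ m, ?_⟩
    rw [hy, add_tmul, tmul_smul, smul_tmul', smul_tmul', Algebra.smul_def, mul_one, Algebra.smul_def, map_pow]

theorem exists_smul_of_one_tmul_eq (hq : QuotPowBijective R R' f) {n : ℕ} {m : M} {y : R' ⊗[R] M}
    (h : (1 : R') ⊗ₜ[R] m = f ^ n • y) : ∃ u : M, m = f ^ n • u := by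
  obtain ⟨ρ, hρ⟩ := exists_ringHom hq n
  let ρₗ : R' →ₗ[R] R ⧸ Ideal.span {f ^ n} :=
    { toFun := ρ, map_add' := map_add ρ
      map_smul' := fun r x => by rw [Algebra.smul_def, map_mul, hρ, RingHom.id_apply, Algebra.smul_def]; rfl }
  let e := TensorProduct.quotTensorEquivQuotSMul M (Ideal.span {f ^ n})
  have h' := congrArg e (congrArg (ρₗ.rTensor M) h)
  rw [LinearMap.map_smul, map_smul, LinearMap.rTensor_tmul, show ρₗ 1 = Ideal.Quotient.mk (Ideal.span {f ^ n}) 1 from map_one ρ] at h'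
  obtain ⟨w, hw⟩ := Submodule.Quotient.mk_surjective _ (e (ρₗ.rTensor M y))
  rw [← hw, ← Submodule.Quotient.mk_smul, show e ((Ideal.Quotient.mk (Ideal.span {f ^ n}) 1) ⊗ₜ m) =
    Submodule.Quotient.mk ((1 : R) • m) from TensorProduct.quotTensorEquivQuotSMul_mk_tmul _ _ _, one_smul,
    Submodule.Quotient.eq, Submodule.ideal_span_singleton_smul, Submodule.mem_smul_pointwise_iff_exists] at h'
  obtain ⟨b, -, hb⟩ := h'
  exact ⟨b + w, by rw [smul_add, hb]; abel⟩

theorem loc_eq_zero_iff {N : Type u} [AddCommGroup N] [Module R N] {m : N} :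
    LocalizedModule.mkLinearMap (Submonoid.powers f) N m = 0 ↔ ∃ n : ℕ, f ^ n • m = 0 := by
  rw [IsLocalizedModule.eq_zero_iff (Submonoid.powers f)]
  exact ⟨fun ⟨⟨_, n, rfl⟩, h⟩ => ⟨n, h⟩, fun ⟨n, h⟩ => ⟨⟨f ^ n, n, rfl⟩, h⟩⟩

theorem loc_surj {N : Type u} [AddCommGroup N] [Module R N] (y : LocalizedModule (Submonoid.powers f) N) :
    ∃ (n : ℕ) (a : N), f ^ n • y = LocalizedModule.mkLinearMap (Submonoid.powers f) N a := by
  obtain ⟨⟨a, ⟨_, n, rfl⟩⟩, h⟩ := IsLocalizedModule.surj (Submonoid.powers f) (LocalizedModule.mkLinearMap (Submonoid.powers f) N) y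
  exact ⟨n, a, h⟩

theorem smul_loc_injective {N : Type u} [AddCommGroup N] [Module R N] (n : ℕ) :
    Function.Injective fun y : LocalizedModule (Submonoid.powers f) N => f ^ n • y :=
  IsLocalizedModule.smul_injective (LocalizedModule.mkLinearMap (Submonoid.powers f) N) (⟨f ^ n, n, rfl⟩ : Submonoid.powers f)

theorem tensorOfLoc_mk (m : M) : tensorOfLoc R R' f M (LocalizedModule.mkLinearMap (Submonoid.powers f) M m) =
    locOfTensor R R' f M (1 ⊗ₜ m) :=
  IsLocalizedModule.map_apply _ _ _ _ m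

/-- Torsion of `M` maps injectively. -/
def TorsionInj (R R' : Type u) [CommRing R] [CommRing R'] [Algebra R R'] (f : R) (M : Type u) [AddCommGroup M]
    [Module R M] : Prop :=
  ∀ m : M, (∃ n : ℕ, f ^ n • m = 0) → (1 : R') ⊗ₜ[R] m = 0 → m = 0

/-- Torsion of `M` maps surjectively. -/
def TorsionSurj (R R' : Type u) [CommRing R] [CommRing R'] [Algebra R R'] (f : R) (M : Type u) [AddCommGroup M]
    [Module R M] : Prop :=
  ∀ x : R' ⊗[R] M, (∃ n : ℕ, f ^ n • x = 0) → ∃ m : M, (∃ n : ℕ, f ^ n • m = 0) ∧ (1 : R') ⊗ₜ[R] m = x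

theorem isGlueable_iff (hq : QuotPowBijective R R' f) :
    IsGlueable R R' f M ↔ TorsionInj R R' f M ∧ TorsionSurj R R' f M := by
  constructor
  · rintro ⟨hi, hm⟩
    refine ⟨fun m hm' h0 => hi ?_, fun x hx => ?_⟩
    · show ((1 : R') ⊗ₜ[R] m, _) = ((1 : R') ⊗ₜ[R] (0 : M), _)
      rw [h0, tmul_zero, loc_eq_zero_iff.mpr hm', map_zero]
    · obtain ⟨m, h1, h2⟩ := hm x 0 (by rw [map_zero]; exact loc_eq_zero_iff.mpr hx)
      exact ⟨m, loc_eq_zero_iff.mp h2, h1⟩
  · rintro ⟨hi, hs⟩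
    refine ⟨fun a b hab => ?_, fun x y hxy => ?_⟩
    · rw [← sub_eq_zero]
      refine hi _ (loc_eq_zero_iff.mp ?_) ?_
      · rw [map_sub, sub_eq_zero]; exact congrArg Prod.snd hab
      · rw [tmul_sub, sub_eq_zero]; exact congrArg Prod.fst hab
    obtain ⟨n, a, ha⟩ := loc_surj y
    have h1 : LocalizedModule.mkLinearMap (Submonoid.powers f) (R' ⊗[R] M) (f ^ n • x - 1 ⊗ₜ a) = 0 := by
      rw [map_sub, map_smul, sub_eq_zero]
      exact ((congrArg (f ^ n • ·) hxy).trans (map_smul _ _ _).symm).trans ((congrArg _ ha).trans (tensorOfLoc_mk a))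
    obtain ⟨k, hk⟩ := loc_eq_zero_iff.mp h1
    rw [smul_sub, sub_eq_zero, smul_smul, ← pow_add, ← tmul_smul] at hk
    obtain ⟨b, hb⟩ := exists_smul_of_one_tmul_eq hq hk.symm
    have h2 : f ^ (k + n) • (x - 1 ⊗ₜ b) = 0 := by rw [smul_sub, hk, ← tmul_smul, hb, sub_self]
    obtain ⟨t, ⟨j, hj⟩, ht⟩ := hs _ ⟨_, h2⟩
    have h3 : f ^ (k + n) • t = 0 := hi _ ⟨j, by rw [smul_comm, hj, smul_zero]⟩ (by rw [tmul_smul, ht, h2])
    refine ⟨b + t, by rw [tmul_add, ht]; abel, smul_loc_injective (k + n) ?_⟩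
    show f ^ (k + n) • _ = f ^ (k + n) • y
    rw [← map_smul, smul_add, h3, add_zero, ← hb, map_smul, ← ha, smul_smul, pow_add]

/-- The pair is glueing iff torsion maps bijectively. -/
theorem isGlueingPair_iff (hq : QuotPowBijective R R' f) :
    IsGlueingPair R R' f ↔
      ((∀ x : R, (∃ n : ℕ, f ^ n * x = 0) → ι x = 0 → x = 0) ∧
       (∀ x' : R', (∃ n : ℕ, ι f ^ n * x' = 0) → ∃ x : R, (∃ n : ℕ, f ^ n * x = 0) ∧ ι x = x')) := by
  have hloc : ∀ x : R, algebraMap R (Localization.Away f) x = 0 ↔ ∃ n : ℕ, f ^ n * x = 0 := fun x => by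
    rw [IsLocalization.map_eq_zero_iff (Submonoid.powers f)]
    exact ⟨fun ⟨⟨_, n, rfl⟩, h⟩ => ⟨n, h⟩, fun ⟨n, h⟩ => ⟨⟨f ^ n, n, rfl⟩, h⟩⟩
  have hloc' : ∀ x : R', algebraMap R' (Localization.Away (ι f)) x = 0 ↔ ∃ n : ℕ, ι f ^ n * x = 0 := fun x => by
    rw [IsLocalization.map_eq_zero_iff (Submonoid.powers (ι f))]
    exact ⟨fun ⟨⟨_, n, rfl⟩, h⟩ => ⟨n, h⟩, fun ⟨n, h⟩ => ⟨⟨ι f ^ n, n, rfl⟩, h⟩⟩
  have hmap : ∀ a : R, Localization.awayMap ι f (algebraMap R (Localization.Away f) a) =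
      algebraMap R' (Localization.Away (ι f)) (ι a) := fun a => IsLocalization.map_eq _ _
  constructor
  · rintro ⟨-, hi, hm, -⟩
    refine ⟨fun x hx h0 => hi ?_, fun x' hx' => ?_⟩
    · show (ι x, _) = (ι 0, _)
      rw [h0, (hloc x).mpr hx, map_zero, map_zero]
    · obtain ⟨r, h1, h2⟩ := hm x' 0 (by rw [(hloc' x').mpr hx', map_zero])
      exact ⟨r, (hloc r).mp h2, h1⟩
  · rintro ⟨hi, hs⟩
    refine ⟨hq, fun a b hab => ?_, fun x y hxy => ?_, fun z => ?_⟩
    · rw [← sub_eq_zero]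
      refine hi _ ((hloc _).mp ?_) ?_
      · rw [map_sub, sub_eq_zero]; exact congrArg Prod.snd hab
      · rw [map_sub, sub_eq_zero]; exact congrArg Prod.fst hab
    · obtain ⟨n, a, ha⟩ := IsLocalization.Away.surj f y
      have h1 : algebraMap R' (Localization.Away (ι f)) (ι f ^ n * x - ι a) = 0 := by
        rw [map_sub, map_mul, hxy, map_pow, ← hmap f, ← map_pow, ← map_mul, mul_comm, ha, hmap, sub_self]
      obtain ⟨k, hk⟩ := (hloc' _).mp h1
      rw [mul_sub, sub_eq_zero, ← mul_assoc, ← pow_add] at hk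
      obtain ⟨b, hb⟩ := exists_mul_of_eq hq (r := f ^ k * a) (y := x) (by rw [map_mul, map_pow, hk])
      have h2 : ι f ^ (k + n) * (x - ι b) = 0 := by
        rw [mul_sub, hk, ← map_pow, ← map_pow, ← map_mul, ← map_mul, hb, sub_self]
      obtain ⟨t, ⟨j, hj⟩, ht⟩ := hs _ ⟨_, h2⟩
      have h3 : f ^ (k + n) * t = 0 := hi _ ⟨j, by rw [mul_left_comm, hj, mul_zero]⟩ (by rw [map_mul, map_pow, ht, h2])
      refine ⟨b + t, by rw [map_add, ht]; ring,
        ((IsLocalization.Away.algebraMap_isUnit (S := Localization.Away f) f).pow (k + n)).mul_left_cancel ?_⟩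
      rw [← map_pow, ← map_mul, mul_add, h3, add_zero, ← hb, map_mul, ← ha, map_pow, map_pow, pow_add]
      ring
    · obtain ⟨n, x', hx'⟩ := IsLocalization.Away.surj (ι f) z
      obtain ⟨r, y', hy⟩ := exists_decomp hq n x'
      obtain ⟨y, hy0⟩ : ∃ y : Localization.Away f, y * algebraMap R _ f ^ n = -algebraMap R _ r :=
        ⟨-algebraMap R _ r * ↑(((IsLocalization.Away.algebraMap_isUnit (S := Localization.Away f) f).pow n).unit⁻¹),
          by rw [mul_assoc, IsUnit.val_inv_mul, mul_one]⟩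
      refine ⟨y', y, ((IsLocalization.Away.algebraMap_isUnit (S := Localization.Away (ι f)) (ι f)).pow n).mul_right_cancel ?_⟩
      have h4 := congrArg (Localization.awayMap ι f) hy0
      rw [map_mul, map_pow, map_neg, hmap, hmap] at h4
      rw [hx', hy, map_add, map_mul, map_pow]
      linear_combination -h4

theorem torsion_of_pair (h : IsGlueingPair R R' f) :
    (∀ x : R, (∃ n : ℕ, f ^ n * x = 0) → ι x = 0 → x = 0) ∧
      (∀ x' : R', (∃ n : ℕ, ι f ^ n * x' = 0) → ∃ x : R, (∃ n : ℕ, f ^ n * x = 0) ∧ ι x = x') :=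
  (isGlueingPair_iff h.1).mp h

theorem torsionSurj_of_pair (h : IsGlueingPair R R' f) : TorsionSurj R R' f M := by
  intro x hx
  obtain ⟨n, hn⟩ := hx
  let Rf := Localization.Away f
  let Q := Localization.Away (ι f)
  let α : R →ₗ[R] R' × Rf := (Algebra.linearMap R R').prod (Algebra.linearMap R Rf)
  let a' : R' →ₗ[R] Q := ((IsScalarTower.toAlgHom R R' Q).restrictScalars R).toLinearMap
  let w : Rf →ₗ[R] Q :=
    { toFun := Localization.awayMap ι f, map_add' := map_add _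
      map_smul' := fun r y => by
        rw [Algebra.smul_def, map_mul, RingHom.id_apply, Algebra.smul_def]
        exact congrArg (· * _) (IsLocalization.map_eq _ _) }
  let β : R' × Rf →ₗ[R] Q := a'.coprod (-w)
  have hβ : ∀ p : R' × Rf, β p = algebraMap R' Q p.1 - Localization.awayMap ι f p.2 := fun p => by
    show a' p.1 + (-w) p.2 = _
    rw [LinearMap.neg_apply, ← sub_eq_add_neg]; rfl
  have hex : Function.Exact α β := fun p => by
    rw [hβ, sub_eq_zero]
    constructor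
    · intro hp
      obtain ⟨r, h1, h2⟩ := h.2.2.1 p.1 p.2 hp
      exact ⟨r, Prod.ext h1 h2⟩
    · rintro ⟨r, rfl⟩
      exact (IsLocalization.map_eq _ _).symm
  have hsurj : Function.Surjective β := fun z => by
    obtain ⟨x', y, hxy⟩ := h.2.2.2 z
    exact ⟨(x', y), (hβ _).trans hxy⟩
  let inlM := (LinearMap.inl R R' Rf).rTensor M
  have hu : IsUnit (algebraMap R Q f ^ n) := (IsLocalization.Away.algebraMap_isUnit (S := Q) (ι f)).pow n
  have h0 : β.rTensor M (inlM x) = 0 := by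
    have hinj : ∀ z : Q ⊗[R] M, f ^ n • z = 0 → z = 0 := fun z hz => by
      have : z = (↑hu.unit⁻¹ * (algebraMap R Q f ^ n)) • z := by rw [IsUnit.val_inv_mul, one_smul]
      rw [this, mul_smul]
      refine (congrArg ((↑hu.unit⁻¹ : Q) • ·) ?_).trans (smul_zero _)
      rw [← map_pow, algebraMap_smul, hz]
    exact hinj _ (by rw [← map_smul, ← map_smul, hn, map_zero, map_zero])
  obtain ⟨z, hz⟩ := (rTensor_exact M hex hsurj _).mp h0
  refine ⟨TensorProduct.lid R M z, loc_eq_zero_iff.mp ?_, ?_⟩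
  · let μ : Rf →ₗ[R] M →ₗ[R] LocalizedModule (Submonoid.powers f) M :=
      LinearMap.mk₂ R (fun y m => y • LocalizedModule.mkLinearMap (Submonoid.powers f) M m)
        (fun a b m => add_smul a b _) (fun r a m => smul_assoc r a _)
        (fun a m m' => by rw [map_add, smul_add]) (fun r a m => by rw [map_smul, smul_comm])
    have key : ∀ z : R ⊗[R] M, TensorProduct.lift μ ((LinearMap.snd R R' Rf).rTensor M (α.rTensor M z)) =
        LocalizedModule.mkLinearMap (Submonoid.powers f) M (TensorProduct.lid R M z) := fun z => by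
      induction z using TensorProduct.induction_on with
      | zero => simp
      | add a b ha hb => simp only [map_add, ha, hb]
      | tmul r m =>
        show (algebraMap R Rf r) • LocalizedModule.mkLinearMap (Submonoid.powers f) M m = _
        rw [algebraMap_smul, ← map_smul, TensorProduct.lid_tmul]
    rw [← key, hz, ← LinearMap.rTensor_comp_apply, LinearMap.snd_comp_inl, LinearMap.rTensor_zero,
      LinearMap.zero_apply, map_zero]
  · have key : ∀ z : R ⊗[R] M, (LinearMap.fst R R' Rf).rTensor M (α.rTensor M z) =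
        (1 : R') ⊗ₜ[R] TensorProduct.lid R M z := fun z => by
      induction z using TensorProduct.induction_on with
      | zero => simp
      | add a b ha hb => simp only [map_add, tmul_add, ha, hb]
      | tmul r m =>
        show (algebraMap R R' r) ⊗ₜ[R] m = _
        rw [TensorProduct.lid_tmul, Algebra.algebraMap_eq_smul_one, smul_tmul]
    rw [← key, hz, ← LinearMap.rTensor_comp_apply, LinearMap.fst_comp_inl, LinearMap.rTensor_id, LinearMap.id_apply]

theorem isGlueable_iff_of_pair (h : IsGlueingPair R R' f) : IsGlueable R R' f M ↔ TorsionInj R R' f M :=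
  (isGlueable_iff h.1).trans (and_iff_left (torsionSurj_of_pair h))

theorem exists_glue (hM : IsGlueable R R' f M) {x : R' ⊗[R] M} {m : M} {n : ℕ}
    (hx : ∃ k : ℕ, f ^ k • (f ^ n • x - 1 ⊗ₜ m) = 0) :
    ∃ μ : M, (1 : R') ⊗ₜ[R] μ = x ∧ ∃ k : ℕ, f ^ k • (f ^ n • μ - m) = 0 := by
  have hu := IsLocalizedModule.map_units (S := Submonoid.powers f) (LocalizedModule.mkLinearMap (Submonoid.powers f) M)
    (⟨f ^ n, n, rfl⟩ : Submonoid.powers f)
  obtain ⟨y, hy⟩ := ((Module.End.isUnit_iff _).mp hu).surjective (LocalizedModule.mkLinearMap (Submonoid.powers f) M m)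
  have hy' : f ^ n • y = LocalizedModule.mkLinearMap (Submonoid.powers f) M m := hy
  obtain ⟨μ, h1, h2⟩ := hM.2 x y (smul_loc_injective n (by
    show f ^ n • _ = f ^ n • _
    rw [← map_smul, ← map_smul, hy', tensorOfLoc_mk, ← sub_eq_zero, ← map_sub]
    exact loc_eq_zero_iff.mpr hx))
  refine ⟨μ, h1, loc_eq_zero_iff.mp ?_⟩
  rw [map_sub, map_smul, h2, hy', sub_self]

end Groth.Agent.EtAlg.Glue.Basic
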