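import Groth.Agent.EtAlg.Glue.Basic
import Mathlib.RingTheory.Flat.Localization
import Mathlib.RingTheory.Flat.Tensor
import Mathlib.RingTheory.Flat.Stability
import Mathlib.LinearAlgebra.DirectSum.Finsupp
import Mathlib.Algebra.Module.LocalizedModule.Exact
import Mathlib.Algebra.Module.FinitePresentation
import Mathlib.RingTheory.Finiteness.Finsupp
import Mathlib.Algebra.Module.Torsion.Basic

/-! Glueing pairs: flatness, vanishing and finiteness. -/

namespace Groth.Agent.EtAlg.Glue.Flat

open TensorProduct EtGlue Basic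
open scoped Pointwise

universe u

theorem rigid {R S M W P : Type u} [CommRing R] [CommRing S] [Algebra R S] [AddCommGroup M] [Module R M]
    [AddCommGroup W] [AddCommGroup P] [Module R W] [Module R P] [Module S W] [Module S P] [IsScalarTower R S W]
    [IsScalarTower R S P] [Module.Flat S (S ⊗[R] M)] (g : W →ₗ[S] P) (hg : Function.Injective g) :
    Function.Injective ((g.restrictScalars R).rTensor M) := by
  have h1 := Module.Flat.rTensor_preserves_injective_linearMap (M := S ⊗[R] M) g hg
  let eX := TensorProduct.AlgebraTensorModule.cancelBaseChange R S S W M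
  let eY := TensorProduct.AlgebraTensorModule.cancelBaseChange R S S P M
  have key : ∀ z, (g.restrictScalars R).rTensor M (eX z) = eY (g.rTensor (S ⊗[R] M) z) := by
    intro z
    induction z with
    | zero => simp
    | add a b ha hb => simp only [map_add, ha, hb]
    | tmul x am =>
      induction am with
      | zero => simp
      | add a b ha hb => simp only [tmul_add, map_add, ha, hb]
      | tmul a m => simp [eX, eY]
  intro v w hvw
  obtain ⟨v, rfl⟩ := eX.surjective v
  obtain ⟨w, rfl⟩ := eX.surjective w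
  rw [key, key] at hvw
  rw [h1 (eY.injective hvw)]

theorem map_swap {R X Y L G : Type u} [CommRing R] [AddCommGroup X] [AddCommGroup Y] [AddCommGroup L]
    [AddCommGroup G] [Module R X] [Module R Y] [Module R L] [Module R G] (f : X →ₗ[R] Y) (i : L →ₗ[R] G)
    (x : X ⊗[R] L) : f.rTensor G (i.lTensor X x) = i.lTensor Y (f.rTensor L x) := by
  induction x using TensorProduct.induction_on with
  | zero => simp
  | add a b ha hb => simp only [map_add, ha, hb]
  | tmul a b => simp

theorem chase {R X Y T L G Z : Type u} [CommRing R] [AddCommGroup X] [AddCommGroup Y] [AddCommGroup T]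
    [AddCommGroup L] [AddCommGroup G] [AddCommGroup Z] [Module R X] [Module R Y] [Module R T] [Module R L]
    [Module R G] [Module R Z] {f : X →ₗ[R] Y} {p : Y →ₗ[R] T} {i : L →ₗ[R] G} {π : G →ₗ[R] Z}
    (hfp : Function.Exact f p) (hp : Function.Surjective p) (hiπ : Function.Exact i π) (hπ : Function.Surjective π)
    (h1 : Function.Injective (i.lTensor T)) (h2 : Function.Injective (f.rTensor G)) :
    Function.Injective (f.rTensor Z) := by
  rw [injective_iff_map_eq_zero]
  intro z hz
  obtain ⟨x, rfl⟩ := LinearMap.lTensor_surjective X hπ z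
  have e : ∀ x, f.rTensor Z (π.lTensor X x) = π.lTensor Y (f.rTensor G x) := map_swap f π
  obtain ⟨w, hw⟩ := (lTensor_exact Y hiπ hπ _).mp ((e x).symm.trans hz)
  have hw0 : p.rTensor L w = 0 := by
    apply h1
    rw [map_zero]
    have : i.lTensor T (p.rTensor L w) = p.rTensor G (i.lTensor Y w) := (map_swap p i w).symm
    rw [this, hw, ← LinearMap.rTensor_comp_apply, hfp.linearMap_comp_eq_zero, LinearMap.rTensor_zero, LinearMap.zero_apply]
  obtain ⟨v, hv⟩ := (rTensor_exact L hfp hp _).mp hw0
  have : x = i.lTensor X v := h2 (by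
    rw [← hw, ← hv]
    exact (map_swap f i v).symm)
  rw [this]
  exact (lTensor_exact X hiπ hπ _).mpr ⟨v, rfl⟩

theorem rTensor_injective_of_algebra {R K F M Q : Type u} (S : Type u) [CommRing R] [CommRing S] [Algebra R S]
    [AddCommGroup K] [AddCommGroup F] [AddCommGroup M] [AddCommGroup Q] [Module R K] [Module R F] [Module R M]
    [Module R Q] [Module S Q] [IsScalarTower R S Q] [Module.Flat S (S ⊗[R] M)] {i : K →ₗ[R] F} {π : F →ₗ[R] M}
    (hiπ : Function.Exact i π) (hπ : Function.Surjective π) (hS : Function.Injective (i.rTensor S)) :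
    Function.Injective (i.rTensor Q) := by
  classical
  let π₀ : (Q →₀ S) →ₗ[S] Q := Finsupp.linearCombination S id
  have hπ₀ : Function.Surjective π₀ := fun q => ⟨Finsupp.single q 1, by simp [π₀]⟩
  refine chase (L := (LinearMap.ker π₀).restrictScalars R) (p := π) (i := ((LinearMap.ker π₀).restrictScalars R).subtype) (π := π₀.restrictScalars R) hiπ hπ ?_ hπ₀ ?_ ?_
  · exact LinearMap.exact_subtype_ker_map π₀
  · have h1 := rigid (R := R) (S := S) (M := M) (W := ↥(LinearMap.ker π₀)) (P := Q →₀ S) (LinearMap.ker π₀).subtype (Submodule.injective_subtype _)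
    exact (LinearMap.lTensor_inj_iff_rTensor_inj _ _).mpr h1
  · have key : ∀ z q, TensorProduct.finsuppRight R R F S Q (i.rTensor (Q →₀ S) z) q =
        i.rTensor S (TensorProduct.finsuppRight R R K S Q z q) := fun z q => by
      induction z using TensorProduct.induction_on with
      | zero => simp
      | add a b ha hb => simp only [map_add, Finsupp.add_apply, ha, hb]
      | tmul k s => simp
    rw [injective_iff_map_eq_zero]
    intro z hz
    apply (TensorProduct.finsuppRight R R K S Q).injective
    rw [map_zero]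
    refine Finsupp.ext fun q => hS ?_
    rw [← key, hz, map_zero, Finsupp.zero_apply, Finsupp.zero_apply, map_zero]

theorem rTensor_injective_of_cokernel {R X Y T K F M : Type u} (S : Type u) [CommRing R] [CommRing S] [Algebra R S]
    [AddCommGroup X] [AddCommGroup Y] [AddCommGroup T] [AddCommGroup K] [AddCommGroup F] [AddCommGroup M]
    [Module R X] [Module R Y] [Module R T] [Module R K] [Module R F] [Module R M] [Module S T] [IsScalarTower R S T]
    [Module.Flat S (S ⊗[R] M)] [Module.Flat R F] {g : X →ₗ[R] Y} {p : Y →ₗ[R] T} {i : K →ₗ[R] F} {π : F →ₗ[R] M}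
    (hg : Function.Injective g) (hgp : Function.Exact g p) (hp : Function.Surjective p)
    (hiπ : Function.Exact i π) (hπ : Function.Surjective π) (hS : Function.Injective (i.rTensor S)) :
    Function.Injective (g.rTensor M) :=
  chase hgp hp hiπ hπ ((LinearMap.lTensor_inj_iff_rTensor_inj T _).mpr (rTensor_injective_of_algebra S hiπ hπ hS))
    (Module.Flat.rTensor_preserves_injective_linearMap g hg)

variable {R R' : Type u} [CommRing R] [CommRing R'] [Algebra R R'] {f : R}
  {M : Type u} [AddCommGroup M] [Module R M]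

theorem flat_loc_tensor (hM : Module.Flat (Localization.Away f) (LocalizedModule (Submonoid.powers f) M)) :
    Module.Flat (Localization.Away f) (Localization.Away f ⊗[R] M) := by
  have hb : IsBaseChange (Localization.Away f) (LocalizedModule.mkLinearMap (Submonoid.powers f) M) :=
    IsLocalizedModule.isBaseChange (Submonoid.powers f) _ _
  exact Module.Flat.of_linearEquiv hb.equiv

/-- A module with flat localization is glueable. -/
theorem glueable_of_flat_loc (h : IsGlueingPair R R' f)
    (hM : Module.Flat (Localization.Away f) (LocalizedModule (Submonoid.powers f) M)) : IsGlueable R R' f M := by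
  classical
  rw [isGlueable_iff_of_pair h]
  intro m hm hm'
  have := flat_loc_tensor hM
  let Rf := Localization.Away f
  let Q := Localization.Away (algebraMap R R' f)
  let _ : Algebra Rf Q := (Localization.awayMap (algebraMap R R') f).toAlgebra
  have : IsScalarTower R Rf Q := IsScalarTower.of_algebraMap_eq fun r =>
    (IsScalarTower.algebraMap_apply R R' Q r).trans (show Localization.awayMap (algebraMap R R') f (algebraMap R Rf r) = algebraMap R' Q (algebraMap R R' r) from IsLocalization.map_eq _ _).symm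
  let α : R →ₗ[R] R' × Rf := (Algebra.linearMap R R').prod (Algebra.linearMap R Rf)
  let β : R' × Rf →ₗ[R] Q :=
    (IsScalarTower.toAlgHom R R' Q).toLinearMap.coprod (-(IsScalarTower.toAlgHom R Rf Q).toLinearMap)
  have hβ : ∀ p : R' × Rf, β p = algebraMap R' Q p.1 - Localization.awayMap (algebraMap R R') f p.2 := fun p => by
    show (IsScalarTower.toAlgHom R R' Q).toLinearMap p.1 + (-(IsScalarTower.toAlgHom R Rf Q).toLinearMap) p.2 = _
    rw [LinearMap.neg_apply, ← sub_eq_add_neg]; rfl
  have hex : Function.Exact α β := fun p => by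
    rw [hβ, sub_eq_zero]
    constructor
    · intro hp
      obtain ⟨r, h1, h2⟩ := h.2.2.1 p.1 p.2 hp
      exact ⟨r, Prod.ext h1 h2⟩
    · rintro ⟨r, rfl⟩
      exact (IsLocalization.map_eq _ _).symm
  have hsurj : Function.Surjective β := fun z => by
    obtain ⟨x', y, hxy⟩ := h.2.2.2 z
    exact ⟨(x', y), (hβ _).trans hxy⟩
  let π : (M →₀ R) →ₗ[R] M := Finsupp.linearCombination R id
  have hπ : Function.Surjective π := fun q => ⟨Finsupp.single q 1, by simp [π]⟩
  have hiπ := LinearMap.exact_subtype_ker_map π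
  have h1 := rTensor_injective_of_algebra (K := ↥(LinearMap.ker π)) (F := M →₀ R) (Q := Q) (i := (LinearMap.ker π).subtype) Rf hiπ hπ
    (Module.Flat.rTensor_preserves_injective_linearMap _ Subtype.val_injective)
  have hinj : Function.Injective (α.rTensor M) :=
    chase (L := LinearMap.ker π) (i := (LinearMap.ker π).subtype) hex hsurj hiπ hπ
      ((LinearMap.lTensor_inj_iff_rTensor_inj Q _).mpr h1)
      (Module.Flat.rTensor_preserves_injective_linearMap α h.2.1)
  obtain ⟨n, hn⟩ := hm
  have h1 : α.rTensor M ((1 : R) ⊗ₜ m) = 0 := by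
    rw [LinearMap.rTensor_tmul, show α 1 = ((1 : R'), (0 : Rf)) + ((0 : R'), (1 : Rf)) from by
      rw [Prod.mk_add_mk, add_zero, zero_add]; exact Prod.ext (map_one (algebraMap R R')) (map_one (algebraMap R Rf)), add_tmul]
    have e1 : ((1 : R'), (0 : Rf)) ⊗ₜ[R] m = 0 := by
      have := congrArg ((LinearMap.inl R R' Rf).rTensor M) hm'
      rwa [LinearMap.rTensor_tmul, map_zero] at this
    have hu : IsUnit (algebraMap R Rf f ^ n) := (IsLocalization.Away.algebraMap_isUnit (S := Rf) f).pow n
    have e2 : ((0 : R'), (1 : Rf)) ⊗ₜ[R] m = 0 := by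
      have h3 : ((0 : R'), (1 : Rf)) = f ^ n • ((0 : R'), (↑hu.unit⁻¹ : Rf)) := by
        rw [Prod.smul_mk, smul_zero, Algebra.smul_def, map_pow, IsUnit.mul_val_inv]
      rw [h3, smul_tmul, hn, tmul_zero]
    rw [e1, e2, add_zero]
  have := congrArg (TensorProduct.lid R M) (hinj (h1.trans (map_zero _).symm))
  simpa using this

/-- A module vanishing over `R'` and after inverting `f` vanishes. -/
theorem eq_zero_of_pair (h : IsGlueingPair R R' f) (hM' : ∀ x : R' ⊗[R] M, x = 0)
    (hloc : ∀ m : M, ∃ n : ℕ, f ^ n • m = 0) (m : M) : m = 0 := by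
  have : Subsingleton (LocalizedModule (Submonoid.powers f) M) := subsingleton_of_forall_eq 0 fun y => by
    obtain ⟨n, a, ha⟩ := loc_surj y
    exact smul_loc_injective n (by show f ^ n • y = f ^ n • (0 : LocalizedModule (Submonoid.powers f) M); rw [ha, loc_eq_zero_iff.mpr (hloc a), smul_zero])
  exact ((isGlueable_iff_of_pair h).mp (glueable_of_flat_loc h inferInstance)) m (hloc m) (hM' _)

/-- Surjectivity is detected. -/
theorem surjective_of_pair (h : IsGlueingPair R R' f) {N : Type u} [AddCommGroup N] [Module R N] (g : N →ₗ[R] M)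
    (hg : Function.Surjective (g.lTensor R')) (hloc : ∀ m : M, ∃ n : ℕ, f ^ n • m ∈ LinearMap.range g) :
    Function.Surjective g := by
  intro m
  have key := eq_zero_of_pair (M := M ⧸ LinearMap.range g) h (fun x => ?_) (fun q => ?_) (Submodule.Quotient.mk m)
  · exact (Submodule.Quotient.mk_eq_zero _).mp key
  · obtain ⟨y, rfl⟩ := LinearMap.lTensor_surjective R' (Submodule.mkQ_surjective (LinearMap.range g)) x
    obtain ⟨z, rfl⟩ := hg y
    rw [← LinearMap.lTensor_comp_apply, show (LinearMap.range g).mkQ ∘ₗ g = 0 from LinearMap.ext fun n =>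
      (Submodule.Quotient.mk_eq_zero _).mpr ⟨n, rfl⟩, LinearMap.lTensor_zero, LinearMap.zero_apply]
  · obtain ⟨q, rfl⟩ := Submodule.Quotient.mk_surjective _ q
    obtain ⟨n, hn⟩ := hloc q
    exact ⟨n, by rw [← Submodule.Quotient.mk_smul]; exact (Submodule.Quotient.mk_eq_zero _).mpr hn⟩

theorem one_tmul_torsion (h : IsGlueingPair R R' f) [Module.Flat R' (R' ⊗[R] M)] {n : ℕ} {x : R' ⊗[R] M}
    (hx : f ^ n • x = 0) :
    ∃ m₀ ∈ (LinearMap.ker (LinearMap.lsmul R R (f ^ n)) : Submodule R R) • (⊤ : Submodule R M),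
      x = (1 : R') ⊗ₜ m₀ := by
  let μ : R' →ₗ[R'] R' := LinearMap.lsmul R' R' (algebraMap R R' (f ^ n))
  let W := R' ⧸ LinearMap.ker μ
  let ν : W →ₗ[R'] R' := (LinearMap.ker μ).liftQ μ le_rfl
  have hν : Function.Injective ν := LinearMap.ker_eq_bot.mp (Submodule.ker_liftQ_eq_bot _ _ _ le_rfl)
  have hinj := rigid (R := R) (M := M) ν hν
  let p : R' →ₗ[R] W := (LinearMap.ker μ).mkQ.restrictScalars R
  have h0 : p.rTensor M x = 0 := hinj (by
    rw [← LinearMap.rTensor_comp_apply, map_zero, show (ν.restrictScalars R) ∘ₗ p = f ^ n • LinearMap.id from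
      LinearMap.ext fun r => by
        show algebraMap R R' (f ^ n) • r = f ^ n • r
        rw [algebraMap_smul],
      LinearMap.rTensor_smul, LinearMap.smul_apply, LinearMap.rTensor_id, LinearMap.id_apply, hx])
  let Kμ : Submodule R R' := (LinearMap.ker μ).restrictScalars R
  have hex : Function.Exact Kμ.subtype p := fun y =>
    ⟨fun hy => ⟨⟨y, (Submodule.Quotient.mk_eq_zero (LinearMap.ker μ)).mp hy⟩, rfl⟩,
      fun ⟨z, hz⟩ => hz ▸ (Submodule.Quotient.mk_eq_zero (LinearMap.ker μ)).mpr z.2⟩
  have hps : Function.Surjective p := Submodule.mkQ_surjective (LinearMap.ker μ)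
  have hexM := rTensor_exact M hex hps
  obtain ⟨w, hw⟩ := (hexM x).mp h0
  subst hw
  clear hx h0
  induction w using TensorProduct.induction_on with
  | zero => exact ⟨0, zero_mem _, by simp⟩
  | add a b ha hb =>
    obtain ⟨⟨m₁, h₁, e₁⟩, m₂, h₂, e₂⟩ := ha, hb
    exact ⟨m₁ + m₂, add_mem h₁ h₂, by rw [map_add, e₁, e₂, tmul_add]⟩
  | tmul t m =>
    obtain ⟨t, ht⟩ := t
    have ht' : algebraMap R R' f ^ n * t = 0 := by rw [← map_pow]; exact ht
    obtain ⟨t₀, ⟨j, hj⟩, rfl⟩ := (torsion_of_pair h).2 t ⟨n, ht'⟩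
    have ht₀ : f ^ n * t₀ = 0 := (torsion_of_pair h).1 _ ⟨j, by rw [mul_left_comm, hj, mul_zero]⟩ (by rw [map_mul, map_pow, ht'])
    refine ⟨t₀ • m, Submodule.smul_mem_smul (LinearMap.mem_ker.mpr ht₀) trivial, ?_⟩
    show algebraMap R R' t₀ ⊗ₜ[R] m = _
    rw [Algebra.algebraMap_eq_smul_one, smul_tmul]

theorem mem_torsion_smul (h : IsGlueingPair R R' f) [Module.Flat R' (R' ⊗[R] M)] (hg : IsGlueable R R' f M)
    {n : ℕ} {m : M} (hm : f ^ n • m = 0) :
    m ∈ (LinearMap.ker (LinearMap.lsmul R R (f ^ n)) : Submodule R R) • (⊤ : Submodule R M) := by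
  obtain ⟨m₀, h₀, e⟩ := one_tmul_torsion h (x := (1 : R') ⊗ₜ[R] m) (n := n) (by rw [← tmul_smul, hm, tmul_zero])
  have hm₀ : f ^ n • m₀ = 0 := Submodule.smul_induction_on h₀
    (fun t ht y _ => by rw [smul_smul]; exact (congrArg (· • y) (LinearMap.mem_ker.mp ht)).trans (zero_smul R y))
    (fun a b ha hb => by rw [smul_add, ha, hb, add_zero])
  have : m - m₀ = 0 := ((isGlueable_iff_of_pair h).mp hg) _ ⟨n, by rw [smul_sub, hm, hm₀, sub_zero]⟩
    (by rw [tmul_sub, e, sub_self])
  rwa [sub_eq_zero.mp this]

/-- Tensoring with `M` preserves an injection with cokernel killed by a power of `f`. -/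
theorem rTensor_injective_of_smul_mem (h : IsGlueingPair R R' f) [Module.Flat R' (R' ⊗[R] M)]
    (hg : IsGlueable R R' f M) {n : ℕ} {X Y : Type u} [AddCommGroup X] [AddCommGroup Y] [Module R X] [Module R Y]
    (g : X →ₗ[R] Y) (hinj : Function.Injective g) (hn : ∀ y, f ^ n • y ∈ LinearMap.range g) :
    Function.Injective (g.rTensor M) := by
  classical
  let S := R ⧸ Ideal.span {f ^ n}
  obtain ⟨ρ, hρ⟩ := exists_ringHom h.1 n
  let _ : Algebra R' S := ρ.toAlgebra
  have : IsScalarTower R R' S := IsScalarTower.of_algebraMap_eq fun r => (hρ r).symm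
  have : Module.Flat S (S ⊗[R] M) :=
    Module.Flat.of_linearEquiv (TensorProduct.AlgebraTensorModule.cancelBaseChange R R' S S M).symm
  let T := Y ⧸ LinearMap.range g
  have hT : Module.IsTorsionBySet R T (Ideal.span {f ^ n} : Ideal R) := by
    refine (Module.isTorsionBySet_span_singleton_iff _).mpr fun t => ?_
    obtain ⟨y, rfl⟩ := Submodule.Quotient.mk_surjective _ t
    rw [← Submodule.Quotient.mk_smul]
    exact (Submodule.Quotient.mk_eq_zero _).mpr (hn y)
  let _ : Module S T := hT.module
  have : IsScalarTower R S T := hT.isScalarTower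
  let π : (M →₀ R) →ₗ[R] M := Finsupp.linearCombination R id
  have hπ : Function.Surjective π := fun q => ⟨Finsupp.single q 1, by simp [π]⟩
  have hiπ := LinearMap.exact_subtype_ker_map π
  suffices h0 : Function.Injective ((LinearMap.ker π).subtype.rTensor S) from
    rTensor_injective_of_cokernel (T := T) (K := ↥(LinearMap.ker π)) (F := M →₀ R) S hinj
      (LinearMap.exact_map_mkQ_range g) (Submodule.mkQ_surjective _) hiπ hπ h0
  let L := LinearMap.ker π
  let eL := TensorProduct.tensorQuotEquivQuotSMul L (Ideal.span {f ^ n})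
  let eG := TensorProduct.tensorQuotEquivQuotSMul (M →₀ R) (Ideal.span {f ^ n})
  let _ : AddCommGroup L := Submodule.addCommGroup L
  rw [injective_iff_map_eq_zero]
  intro z hz
  obtain ⟨l, hl⟩ := Submodule.Quotient.mk_surjective _ (eL z)
  have hz' : z = l ⊗ₜ (Ideal.Quotient.mk (Ideal.span {f ^ n}) 1) := eL.injective (by
    rw [← hl, TensorProduct.tensorQuotEquivQuotSMul_tmul_mk, one_smul])
  subst hz'
  rw [LinearMap.rTensor_tmul] at hz
  have hz'' := congrArg eG hz
  rw [TensorProduct.tensorQuotEquivQuotSMul_tmul_mk, one_smul, map_zero, Submodule.Quotient.mk_eq_zero,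
    Submodule.ideal_span_singleton_smul, Submodule.mem_smul_pointwise_iff_exists] at hz''
  obtain ⟨x, -, hx⟩ := hz''
  have hπx : f ^ n • π x = 0 := by rw [← map_smul, hx]; exact l.2
  have hmem := mem_torsion_smul h hg hπx
  rw [← LinearMap.range_eq_top.mpr hπ, ← Submodule.map_top, ← Submodule.map_smul''] at hmem
  obtain ⟨y, hy, hyx⟩ := hmem
  have hy0 : f ^ n • y = 0 := Submodule.smul_induction_on hy
    (fun t ht y _ => by rw [smul_smul]; exact (congrArg (· • y) (LinearMap.mem_ker.mp ht)).trans (zero_smul R y))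
    (fun a b ha hb => by rw [smul_add, ha, hb, add_zero])
  have hl' : (⟨x - y, by rw [LinearMap.mem_ker, map_sub, hyx, sub_self]⟩ : L) ⊗ₜ[R] (f ^ n • (1 : S)) =
      l ⊗ₜ[R] (1 : S) := by
    rw [← smul_tmul, show f ^ n • (⟨x - y, _⟩ : L) = l from Subtype.ext (by
      show f ^ n • (x - y) = _
      rw [smul_sub, hy0, sub_zero, hx]; rfl)]
  rw [map_one, ← hl', show f ^ n • (1 : S) = 0 from by
    rw [← Algebra.algebraMap_eq_smul_one]
    exact Ideal.Quotient.eq_zero_iff_mem.mpr (Ideal.mem_span_singleton_self _), tmul_zero]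

/-- Flatness is detected by a glueing pair. -/
theorem flat_of_pair (h : IsGlueingPair R R' f) [hM' : Module.Flat R' (R' ⊗[R] M)]
    (hMf : Module.Flat (Localization.Away f) (LocalizedModule (Submonoid.powers f) M)) : Module.Flat R M := by
  have hg := glueable_of_flat_loc h hMf
  let Mf := LocalizedModule (Submonoid.powers f) M
  have : Module.Flat R Mf := Module.Flat.trans R (Localization.Away f) Mf
  rw [Module.Flat.iff_rTensor_injective']
  intro I
  rw [injective_iff_map_eq_zero]
  intro z hz
  obtain ⟨n, hn⟩ : ∃ n : ℕ, f ^ n • z = 0 := by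
    let loc := LocalizedModule.mkLinearMap (Submonoid.powers f) M
    have hz2 : LinearMap.lTensor I loc z = 0 := Module.Flat.rTensor_preserves_injective_linearMap (M := Mf)
      I.subtype Subtype.val_injective (by
        rw [map_zero, ← LinearMap.comp_apply, LinearMap.rTensor_comp_lTensor, ← LinearMap.lTensor_comp_rTensor,
          LinearMap.comp_apply, hz, map_zero])
    have hz3 : loc.rTensor I (TensorProduct.comm R I M z) = 0 := by
      rw [show loc.rTensor I (TensorProduct.comm R I M z) = TensorProduct.comm R I Mf (loc.lTensor I z) from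
        DFunLike.congr_fun (TensorProduct.ext' (g := loc.rTensor I ∘ₗ (TensorProduct.comm R I M).toLinearMap)
          (h := (TensorProduct.comm R I Mf).toLinearMap ∘ₗ loc.lTensor I) fun a b => rfl) z, hz2, map_zero]
    have : IsLocalizedModule (Submonoid.powers f) (TensorProduct.AlgebraTensorModule.rTensor R I loc) :=
      inferInstance
    obtain ⟨⟨_, n, rfl⟩, hn⟩ := (IsLocalizedModule.eq_zero_iff (Submonoid.powers f)
      (TensorProduct.AlgebraTensorModule.rTensor R I loc)).mp hz3
    refine ⟨n, (TensorProduct.comm R I M).injective ?_⟩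
    rw [map_smul, map_zero]
    exact hn
  let fn : R := f ^ n
  let p : I →ₗ[R] (fn • I : Submodule R R) :=
    LinearMap.codRestrict _ (fn • I.subtype) fun x => Submodule.smul_mem_pointwise_smul _ _ _ x.2
  let j : (fn • I : Submodule R R) →ₗ[R] I :=
    Submodule.inclusion (Submodule.smul_le_self_of_tower fn I)
  have hp : Function.Surjective p := fun ⟨y, hy⟩ => by
    obtain ⟨x, hx, rfl⟩ := hy
    exact ⟨⟨x, hx⟩, rfl⟩
  have hj : Function.Injective (j.rTensor M) :=
    rTensor_injective_of_smul_mem h hg (n := n) j (Submodule.inclusion_injective _) fun y => ⟨p y, rfl⟩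
  have hpz : p.rTensor M z = 0 := hj (by
    rw [← LinearMap.rTensor_comp_apply, map_zero, show j ∘ₗ p = fn • LinearMap.id from LinearMap.ext fun x => Subtype.ext rfl,
      LinearMap.rTensor_smul, LinearMap.smul_apply, LinearMap.rTensor_id, LinearMap.id_apply, hn])
  obtain ⟨w, rfl⟩ := (rTensor_exact M (LinearMap.exact_subtype_ker_map p) hp z).mp hpz
  suffices w = 0 by rw [this, map_zero]
  let J := LinearMap.ker p
  let q : J →ₗ[R] R' := Algebra.linearMap R R' ∘ₗ I.subtype ∘ₗ J.subtype
  have hJ : ∀ t : J, f ^ n * (t : I).1 = 0 := fun t => congrArg Subtype.val (LinearMap.mem_ker.mp t.2)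
  have hq : Function.Injective q := (injective_iff_map_eq_zero q).mpr fun t ht =>
    Subtype.ext (Subtype.ext ((torsion_of_pair h).1 _ ⟨n, hJ t⟩ ht))
  let J' : Submodule R' R' :=
    { (LinearMap.range q).toAddSubmonoid with
      smul_mem' := by
        rintro r _ ⟨t, rfl⟩
        obtain ⟨s, y, rfl⟩ := exists_decomp h.1 n r
        refine ⟨s • t, ?_⟩
        show q (s • t) = (algebraMap R R' s + algebraMap R R' f ^ n * y) * q t
        have : algebraMap R R' f ^ n * q t = 0 := by
          rw [← map_pow]
          exact (map_mul _ _ _).symm.trans ((congrArg _ (hJ t)).trans (map_zero _))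
        rw [map_smul, Algebra.smul_def, add_mul, mul_right_comm, this, zero_mul, add_zero] }
  let e : J ≃ₗ[R] J' :=
    LinearEquiv.ofBijective (LinearMap.codRestrict (J'.restrictScalars R) q fun t => ⟨t, rfl⟩)
      ⟨fun a b hab => hq (congrArg Subtype.val hab), fun ⟨y, t, ht⟩ => ⟨t, Subtype.ext ht⟩⟩
  have hinj : Function.Injective (q.rTensor M) := by
    rw [show q = (J'.subtype.restrictScalars R) ∘ₗ e.toLinearMap from LinearMap.ext fun t => rfl, LinearMap.rTensor_comp]
    exact (rigid J'.subtype Subtype.val_injective).comp (e.rTensor M).injective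
  refine hinj ?_
  rw [map_zero, show q = Algebra.linearMap R R' ∘ₗ (I.subtype ∘ₗ J.subtype) from rfl, LinearMap.rTensor_comp_apply,
    LinearMap.rTensor_comp_apply, hz, map_zero]

end Groth.Agent.EtAlg.Glue.Flat
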